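import Groth.Agent.SegreInv.Basic
import Mathlib.SetTheory.Cardinal.Finite
import Mathlib.RingTheory.LocalRing.ResidueField.Ideal
import Mathlib.RingTheory.Localization.Integer

/-!
# Forms avoiding finitely many points
-/

universe u

open scoped TensorProduct
open PiTensorProduct (tprod)

set_option autoImplicit false
set_option linter.style.haveILetI false

namespace Groth.Agent.SegreInv

variable {A B : Type u} [CommRing A] [CommRing B] [Algebra A B] {𝒜 : ℕ → Submodule A B} [GradedAlgebra 𝒜] {d : ℕ}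

theorem radical_witness (hgen : Algebra.adjoin A (𝒜 1 : Set B) = ⊤) (hfg : (𝒜 1).FG)
    (D : Subalgebra A (⨂[A] _ : Fin d, B)) (hD : D = segre 𝒜 d ⊓ SymTen.TS A B d)
    (k : ℕ) (hk : 0 < k) (t : ⨂[A] _ : Fin d, B) (htD : t ∈ D)
    (htk : t ∈ Submodule.span A {s | ∃ b : Fin d → B, (∀ i, b i ∈ 𝒜 k) ∧ s = tprod A b})
    (I : Ideal D)
    (hI : ∀ (P : Ideal D), P.IsPrime → I ≤ P → ∀ (m : ℕ),
      Eval 𝒜 d {s | ∃ h : s ∈ D, (⟨s, h⟩ : D) ∈ P} m → False) :
    ∃ n : ℕ, 0 < n ∧ (⟨t, htD⟩ : D) ^ n ∈ I := by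
  have hrad : (⟨t, htD⟩ : D) ∈ I.radical := by
    rw [Ideal.radical_eq_sInf, Ideal.mem_sInf]
    rintro P ⟨hIP, hP⟩
    by_contra htP
    haveI := hP
    obtain ⟨m, ⟨e⟩⟩ := exists_eval 𝒜 d hgen hfg D hD P k hk t htD htk htP
    exact hI P hP hIP m e
  obtain ⟨n, hn⟩ := hrad
  exact ⟨n + 1, n.succ_pos, by rw [pow_succ]; exact I.mul_mem_right _ hn⟩

/-- Coordinates of points with a unit entry are not all killed by invariant classes. -/
theorem exists_fibreSum_ne {m : ℕ} {K : Type u} [Field K] (w : Fin d → Fin m → K) (j : Fin d → Fin m)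
    (hj : ∀ i, w i (j i) = 1) :
    ∃ α : Fin m → ℕ, (∑ J ∈ Finset.univ.filter (fun J : Fin d → Fin m =>
      ∀ l, (Finset.univ.filter (fun i => J i = l)).card = α l), ∏ i, w i (J i)) ≠ 0 := by
  classical
  by_contra hall
  simp only [not_exists, not_not] at hall
  let L : Fin d → MvPolynomial (Fin m) K := fun i => ∑ l, MvPolynomial.C (w i l) * MvPolynomial.X l
  have hL : ∀ i, L i ≠ 0 := fun i h => by
    have := congrArg (MvPolynomial.aeval (Pi.single (j i) (1 : K))) h
    simp [L, Pi.single_apply, hj] at this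
  have hz : ∏ i, L i = 0 := by
    simp only [L, Fintype.prod_sum, Finset.prod_mul_distrib, ← map_prod]
    let cnt : (Fin d → Fin m) → (Fin m → Fin (d + 1)) := fun J l =>
      ⟨(Finset.univ.filter fun i => J i = l).card,
        Nat.lt_succ_iff.2 ((Finset.card_le_univ _).trans (by simp))⟩
    rw [← Finset.sum_fiberwise Finset.univ cnt]
    refine Finset.sum_eq_zero fun α _ => ?_
    have hfil : (Finset.univ.filter fun J => cnt J = α) =
        Finset.univ.filter (fun J : Fin d → Fin m => ∀ l, (Finset.univ.filter (fun i => J i = l)).card = (α l : ℕ)) := by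
      ext J
      simp [cnt, funext_iff, Fin.ext_iff]
    rw [hfil]
    have hmon : ∀ J ∈ Finset.univ.filter (fun J : Fin d → Fin m =>
        ∀ l, (Finset.univ.filter (fun i => J i = l)).card = (α l : ℕ)),
        MvPolynomial.C (∏ i, w i (J i)) * ∏ i, (MvPolynomial.X (J i) : MvPolynomial (Fin m) K) =
          MvPolynomial.C (∏ i, w i (J i)) * ∏ l, (MvPolynomial.X l : MvPolynomial (Fin m) K) ^ (α l : ℕ) := by
      intro J hJ
      congr 1
      rw [← Finset.prod_fiberwise_of_maps_to (fun i _ => Finset.mem_univ (J i))]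
      refine Finset.prod_congr rfl fun l _ => ?_
      rw [Finset.prod_congr rfl (fun i hi => by rw [(Finset.mem_filter.1 hi).2]), Finset.prod_const,
        (Finset.mem_filter.1 hJ).2 l]
    rw [Finset.sum_congr rfl hmon, ← Finset.sum_mul, ← map_sum, hall, map_zero, zero_mul]
  rw [Finset.prod_eq_zero_iff] at hz
  obtain ⟨i, -, hi⟩ := hz
  exact hL i hi

/-- A linear form with large field of coefficients avoids few points. -/
theorem exists_linear {m : ℕ} {L K : Type u} [Field L] [Field K] [Algebra L K] (w : Fin d → Fin m → K)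
    (j : Fin d → Fin m) (hj : ∀ i, w i (j i) = 1) (hcard : (d : Cardinal) ≤ Cardinal.mk L) :
    ∃ c : Fin m → L, ∀ i, ∑ l, algebraMap L K (c l) * w i l ≠ 0 := by
  classical
  let ev : Fin d → (Fin m → L) → K := fun i c => ∑ l, algebraMap L K (c l) * w i l
  have hadd : ∀ i (v u : Fin m → L) (t : L), ev i (v + t • u) = ev i v + algebraMap L K t * ev i u := by
    intro i v u t
    simp only [ev, Pi.add_apply, Pi.smul_apply, smul_eq_mul, map_add, map_mul, add_mul, Finset.sum_add_distrib,
      Finset.mul_sum, mul_assoc]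
  suffices h : ∀ s : Finset (Fin d), ∃ c : Fin m → L, ∀ i ∈ s, ev i c ≠ 0 by
    obtain ⟨c, hc⟩ := h Finset.univ
    exact ⟨c, fun i => hc i (Finset.mem_univ i)⟩
  intro s
  induction s using Finset.induction with
  | empty => exact ⟨0, fun i hi => absurd hi (Finset.notMem_empty i)⟩
  | insert a s has ih =>
    obtain ⟨v, hv⟩ := ih
    by_cases hva : ev a v ≠ 0
    · exact ⟨v, fun i hi => (Finset.mem_insert.1 hi).elim (fun h => h ▸ hva) (hv i)⟩
    rw [not_not] at hva
    let u : Fin m → L := Pi.single (j a) 1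
    have hua : ev a u = 1 := by
      simp [ev, u, Pi.single_apply, hj]
    by_cases hu : ∀ i ∈ s, ev i u ≠ 0
    · exact ⟨u, fun i hi => (Finset.mem_insert.1 hi).elim (fun h => by rw [h, hua]; exact one_ne_zero) (hu i)⟩
    simp only [not_forall, not_not] at hu
    obtain ⟨k₀, hk₀, hk₀u⟩ := hu
    let bad : Finset L := insert 0 (((s.erase k₀).image fun i => -ev i v / ev i u).preimage (algebraMap L K)
      ((algebraMap L K).injective.injOn))
    have hbad : bad.card < d := by
      refine lt_of_le_of_lt ((Finset.card_insert_le _ _).trans (Nat.add_le_add_right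
        ((Finset.card_le_card_of_injOn (algebraMap L K) (fun t ht => Finset.mem_preimage.1 ht)
          (algebraMap L K).injective.injOn).trans Finset.card_image_le) 1)) ?_
      rw [Finset.card_erase_add_one hk₀]
      exact (Finset.card_lt_univ_of_notMem has).trans_eq (Fintype.card_fin d)
    obtain ⟨t, ht⟩ : ∃ t : L, t ∉ bad := by
      by_contra hall
      simp only [not_exists, not_not] at hall
      letI : Fintype L := ⟨bad, hall⟩
      rw [Cardinal.mk_fintype, Nat.cast_le] at hcard
      exact absurd hcard (not_le.2 ((Finset.card_univ (α := L)).symm.trans_lt hbad))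
    have ht0 : t ≠ 0 := fun h => ht (h ▸ Finset.mem_insert_self _ _)
    refine ⟨v + t • u, fun i hi => ?_⟩
    rw [hadd]
    rcases Finset.mem_insert.1 hi with rfl | hi
    · rw [hva, hua, zero_add, mul_one]
      exact (map_ne_zero _).2 ht0
    · intro h0
      by_cases hiu : ev i u = 0
      · rw [hiu, mul_zero, add_zero] at h0
        exact hv i hi h0
      · refine ht (Finset.mem_insert_of_mem (Finset.mem_preimage.2 (Finset.mem_image.2 ⟨i,
          Finset.mem_erase.2 ⟨fun h => hiu (h ▸ hk₀u), hi⟩, ?_⟩)))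
        rw [div_eq_iff hiu]
        linear_combination -h0

/-- A form of positive degree avoids finitely many points. -/
theorem exists_form {m : ℕ} {K : Type u} [Field K] [Algebra A K] (w : Fin d → Fin m → K) (j : Fin d → Fin m)
    (hj : ∀ i, w i (j i) = 1) :
    ∃ (n : ℕ) (f : MvPolynomial (Fin m) A), 0 < n ∧ f.IsHomogeneous n ∧
      ∀ i, MvPolynomial.aeval (w i) f ≠ 0 := by
  classical
  suffices h : ∀ (c : ℕ) (s : Finset (Fin d)), s.card = c → ∃ (n : ℕ) (f : MvPolynomial (Fin m) A), 0 < n ∧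
      f.IsHomogeneous n ∧ ∀ i ∈ s, MvPolynomial.aeval (w i) f ≠ 0 by
    obtain ⟨n, f, hn, hf, h'⟩ := h _ Finset.univ rfl
    exact ⟨n, f, hn, hf, fun i => h' i (Finset.mem_univ i)⟩
  intro c
  induction c using Nat.strong_induction_on with
  | _ c ih =>
    intro s hs
    by_cases hpair : ∃ a ∈ s, ∃ b ∈ s, a ≠ b ∧ ∀ (n : ℕ) (f : MvPolynomial (Fin m) A), f.IsHomogeneous n →
        MvPolynomial.aeval (w b) f ≠ 0 → MvPolynomial.aeval (w a) f ≠ 0
    · obtain ⟨a, ha, b, hb, hab, himp⟩ := hpair
      obtain ⟨n, f, hn, hf, h'⟩ := ih (s.erase a).card (hs ▸ Finset.card_erase_lt_of_mem ha) _ rfl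
      refine ⟨n, f, hn, hf, fun i hi => ?_⟩
      by_cases hia : i = a
      · subst hia
        exact himp n f hf (h' b (Finset.mem_erase.2 ⟨hab.symm, hb⟩))
      · exact h' i (Finset.mem_erase.2 ⟨hia, hi⟩)
    · simp only [not_exists, not_and, not_forall, not_not] at hpair
      have hg : ∀ b : s, ∃ (n : ℕ) (g : MvPolynomial (Fin m) A), 0 < n ∧ g.IsHomogeneous n ∧
          MvPolynomial.aeval (w b) g ≠ 0 ∧ ∀ a ∈ s, a ≠ b.1 → MvPolynomial.aeval (w a) g = 0 := by
        intro b
        have hh : ∀ a : {a // a ∈ s.erase b.1}, ∃ (n : ℕ) (g : MvPolynomial (Fin m) A), g.IsHomogeneous n ∧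
            MvPolynomial.aeval (w b) g ≠ 0 ∧ MvPolynomial.aeval (w a.1) g = 0 := fun a => by
          obtain ⟨n, g, hg, hgb, hga⟩ := hpair a.1 (Finset.mem_of_mem_erase a.2) b.1 b.2 (Finset.ne_of_mem_erase a.2)
          exact ⟨n, g, hg, hgb, hga⟩
        choose n g hg hgb hga using hh
        refine ⟨(∑ a, n a) + 1, (∏ a, g a) * MvPolynomial.X (j b), Nat.succ_pos _,
          (MvPolynomial.IsHomogeneous.prod _ _ _ fun a _ => hg a).mul (MvPolynomial.isHomogeneous_X _ _), ?_,
          fun a ha hab => ?_⟩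
        · rw [map_mul, map_prod, MvPolynomial.aeval_X, hj, mul_one]
          exact Finset.prod_ne_zero_iff.2 fun a _ => hgb a
        · rw [map_mul, map_prod, Finset.prod_eq_zero (Finset.mem_univ ⟨a, Finset.mem_erase.2 ⟨hab, ha⟩⟩) (hga _),
            zero_mul]
      choose n g hn hg hgb hga using hg
      let N := ∏ b, n b
      have hN : 0 < N := Finset.prod_pos fun b _ => hn b
      have hdvd : ∀ b, n b ∣ N := fun b => Finset.dvd_prod_of_mem _ (Finset.mem_univ b)
      refine ⟨N, ∑ b, g b ^ (N / n b), hN, MvPolynomial.IsHomogeneous.sum _ _ _ fun b _ => ?_, fun i hi => ?_⟩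
      · have := (hg b).pow (N / n b)
        rwa [Nat.mul_div_cancel' (hdvd b)] at this
      · rw [map_sum, Finset.sum_eq_single ⟨i, hi⟩]
        · rw [map_pow]
          exact pow_ne_zero _ (hgb _)
        · intro b _ hb
          rw [map_pow, hga b i hi (fun h => hb (Subtype.ext h.symm))]
          exact zero_pow (Nat.div_pos (Nat.le_of_dvd hN (hdvd b)) (hn b)).ne'
        · exact fun h => absurd (Finset.mem_univ _) h

end Groth.Agent.SegreInv
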