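import Groth.Prelude.Def_SymTen
import Mathlib.RingTheory.GradedAlgebra.Basic
import Mathlib.RingTheory.MvPolynomial.Homogeneous
import Mathlib.RingTheory.Ideal.GoingUp
import Mathlib.RingTheory.Finiteness.Basic
import Mathlib.RingTheory.Localization.FractionRing

/-!
# Invariants of the diagonal Segre product
-/

universe u

open scoped TensorProduct
open PiTensorProduct (tprod)

set_option autoImplicit false
set_option linter.style.haveILetI false

namespace Groth.Agent.SegreInv

variable {A B : Type u} [CommRing A] [CommRing B] [Algebra A B] (𝒜 : ℕ → Submodule A B) [GradedAlgebra 𝒜] (d : ℕ)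

local notation "T" => ⨂[A] _ : Fin d, B

/-- The diagonal Segre product inside the tensor power. -/
noncomputable def segre : Subalgebra A T :=
  Algebra.adjoin A {t | ∃ (k : ℕ) (b : Fin d → B), (∀ i, b i ∈ 𝒜 k) ∧ t = tprod A b}

theorem tprod_mem_segre {k : ℕ} {b : Fin d → B} (hb : ∀ i, b i ∈ 𝒜 k) : tprod A b ∈ segre 𝒜 d :=
  Algebra.subset_adjoin ⟨k, b, hb, rfl⟩

theorem perm_mem_segre (σ : Equiv.Perm (Fin d)) {t : T} (ht : t ∈ segre 𝒜 d) :
    SymTen.perm A B d σ t ∈ segre 𝒜 d := by
  have h : (segre 𝒜 d).map (SymTen.perm A B d σ) ≤ segre 𝒜 d := by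
    rw [segre, AlgHom.map_adjoin, Algebra.adjoin_le_iff]
    rintro _ ⟨_, ⟨k, b, hb, rfl⟩, rfl⟩
    rw [SymTen.perm_tprod]
    exact tprod_mem_segre 𝒜 d fun i => hb _
  exact h ⟨t, ht, rfl⟩

theorem perm_perm (σ τ : Equiv.Perm (Fin d)) (t : T) :
    SymTen.perm A B d σ (SymTen.perm A B d τ t) = SymTen.perm A B d (σ * τ) t := by
  induction t using PiTensorProduct.induction_on with
  | smul_tprod r f =>
    simp only [map_smul, SymTen.perm_tprod]
    rfl
  | add x y hx hy => simp [hx, hy]

theorem perm_one (t : T) : SymTen.perm A B d 1 t = t := by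
  induction t using PiTensorProduct.induction_on with
  | smul_tprod r f =>
    simp only [map_smul, SymTen.perm_tprod]
    rfl
  | add x y hx hy => simp [hx, hy]

/-- The Segre product is integral over its invariants. -/
theorem isIntegral_inclusion (D : Subalgebra A T) (hD : D = segre 𝒜 d ⊓ SymTen.TS A B d)
    (hle : D ≤ segre 𝒜 d) : (Subalgebra.inclusion hle).toRingHom.IsIntegral := by
  classical
  intro e
  let g : Equiv.Perm (Fin d) → T := fun σ => SymTen.perm A B d σ e.1
  let P : Polynomial T := ∏ σ : Equiv.Perm (Fin d), (Polynomial.X - Polynomial.C (g σ))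
  have hcoeff : ∀ n, P.coeff n ∈ D := by
    intro n
    rw [hD]
    refine ⟨?_, fun σ => ?_⟩
    · have : P ∈ Polynomial.lifts (segre 𝒜 d).val.toRingHom := by
        refine Subsemiring.prod_mem _ fun σ _ => ?_
        rw [show (Polynomial.X - Polynomial.C (g σ) : Polynomial T) =
          Polynomial.map (segre 𝒜 d).val.toRingHom (Polynomial.X - Polynomial.C ⟨g σ, perm_mem_segre 𝒜 d σ e.2⟩) by
            simp]
        exact ⟨_, rfl⟩
      obtain ⟨Q, hQ⟩ := this
      rw [← hQ]
      show ((Q.map _).coeff n) ∈ segre 𝒜 d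
      rw [Polynomial.coeff_map]
      exact (Q.coeff n).2
    · rw [← SymTen.perm_apply, ← AlgHom.coe_toRingHom, ← Polynomial.coeff_map]
      congr 1
      rw [Polynomial.map_prod]
      refine Fintype.prod_equiv (Equiv.mulLeft σ) _ _ fun τ => ?_
      rw [Polynomial.map_sub, Polynomial.map_X, Polynomial.map_C]
      show Polynomial.X - Polynomial.C (SymTen.perm A B d σ (SymTen.perm A B d τ e.1)) = _
      rw [perm_perm]
      rfl
  rcases subsingleton_or_nontrivial T with hT | hT
  · haveI : Subsingleton (segre 𝒜 d) := ⟨fun a b => Subtype.ext (Subsingleton.elim _ _)⟩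
    exact ⟨Polynomial.X, Polynomial.monic_X, Subsingleton.elim _ _⟩
  obtain ⟨Q, hQ, -, hQm⟩ := Polynomial.lifts_and_degree_eq_and_monic
    ((Polynomial.lifts_iff_coeff_lifts P).2 fun n => (⟨⟨_, hcoeff n⟩, rfl⟩ : P.coeff n ∈ Set.range D.val.toRingHom))
    (Polynomial.monic_prod_of_monic _ _ fun σ _ => Polynomial.monic_X_sub_C _)
  refine ⟨Q, hQm, Subtype.val_injective ?_⟩
  show (segre 𝒜 d).val.toRingHom (Polynomial.eval₂ (Subalgebra.inclusion hle).toRingHom e Q) = 0
  rw [Polynomial.hom_eval₂, show (segre 𝒜 d).val.toRingHom.comp (Subalgebra.inclusion hle).toRingHom =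
    D.val.toRingHom from RingHom.ext fun _ => rfl, ← Polynomial.eval_map, hQ, Polynomial.eval_prod]
  refine Finset.prod_eq_zero (Finset.mem_univ 1) ?_
  simp [g, perm_one]

/-- Evaluation data at a prime of the invariants. -/
structure Eval (P : Set T) (m : ℕ) where
  /-- The generators. -/
  x : Fin m → B
  hx : ∀ l, x l ∈ 𝒜 1
  /-- The field. -/
  F : Type u
  [field : Field F]
  [algebra : Algebra A F]
  /-- Evaluation of elements. -/
  π : segre 𝒜 d →ₐ[A] F
  /-- Coordinates. -/
  w : Fin d → Fin m → F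
  /-- The chart. -/
  j : Fin d → Fin m
  hj : ∀ i, w i (j i) = 1
  /-- The value at the chart. -/
  y : F
  hy : y ≠ 0
  hmon : ∀ (J : Fin d → Fin m), π ⟨tprod A (fun i => x (J i)), tprod_mem_segre 𝒜 d fun i => hx (J i)⟩ =
    y * ∏ i, w i (J i)
  hP : ∀ (t : T) (ht : t ∈ segre 𝒜 d), t ∈ P → π ⟨t, ht⟩ = 0

attribute [instance] Eval.field Eval.algebra

theorem pow_le_grade (n : ℕ) : (𝒜 1) ^ n ≤ 𝒜 n := by
  induction n with
  | zero =>
    rw [pow_zero]
    exact Submodule.one_le.2 (SetLike.one_mem_graded 𝒜)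
  | succ n ih =>
    rw [pow_succ]
    exact Submodule.mul_le.2 fun a ha c hc => SetLike.mul_mem_graded (ih ha) hc

variable {𝒜} {d}

theorem mem_pow_of_mem (hgen : Algebra.adjoin A (𝒜 1 : Set B) = ⊤) {k : ℕ} {b : B} (hb : b ∈ 𝒜 k) :
    b ∈ (𝒜 1) ^ k := by
  have hle : ∀ n : ℕ, (𝒜 1) ^ n ≤ 𝒜 n := pow_le_grade 𝒜
  let M : Submodule A B := ⨆ n : ℕ, (𝒜 1) ^ n
  have hM : ∀ c : B, c ∈ M := by
    intro c
    have hc : c ∈ Algebra.adjoin A (𝒜 1 : Set B) := hgen ▸ Algebra.mem_top
    induction hc using Algebra.adjoin_induction with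
    | mem z hz => exact Submodule.mem_iSup_of_mem 1 (by rwa [pow_one])
    | algebraMap a =>
      refine Submodule.mem_iSup_of_mem 0 ?_
      rw [pow_zero]
      exact Submodule.algebraMap_mem a
    | add z w _ _ hz hw => exact M.add_mem hz hw
    | mul z w _ _ hz hw =>
      have hMM : M * M ≤ M := by
        rw [Submodule.iSup_mul]
        refine iSup_le fun p => ?_
        rw [Submodule.mul_iSup]
        exact iSup_le fun r => le_iSup_of_le (p + r) (pow_add _ _ _).ge
      exact hMM (Submodule.mul_mem_mul hz hw)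
  classical
  have key : ∀ c ∈ M, (DirectSum.decompose 𝒜 c k : B) ∈ (𝒜 1) ^ k := by
    intro c hc
    induction hc using Submodule.iSup_induction' with
    | mem n z hz =>
      by_cases hn : n = k
      · subst hn
        rwa [DirectSum.decompose_of_mem_same 𝒜 (hle n hz)]
      · rw [DirectSum.decompose_of_mem_ne 𝒜 (hle n hz) hn]
        exact Submodule.zero_mem _
    | zero => simp
    | add z w _ _ hz hw =>
      rw [DirectSum.decompose_add, DirectSum.add_apply, Submodule.coe_add]
      exact Submodule.add_mem _ hz hw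
  have := key b (hM b)
  rwa [DirectSum.decompose_of_mem_same 𝒜 hb] at this

variable (𝒜 d)

/-- If `t` of positive degree avoids a prime of the invariants, there is evaluation data there. -/
theorem exists_eval (hgen : Algebra.adjoin A (𝒜 1 : Set B) = ⊤) (hfg : (𝒜 1).FG)
    (D : Subalgebra A T) (hD : D = segre 𝒜 d ⊓ SymTen.TS A B d) (P : Ideal D) [P.IsPrime]
    (k : ℕ) (hk : 0 < k) (t : T) (htD : t ∈ D)
    (htk : t ∈ Submodule.span A {s | ∃ b : Fin d → B, (∀ i, b i ∈ 𝒜 k) ∧ s = tprod A b})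
    (htP : (⟨t, htD⟩ : D) ∉ P) :
    ∃ m : ℕ, Nonempty (Eval 𝒜 d {s | ∃ h : s ∈ D, (⟨s, h⟩ : D) ∈ P} m) := by
  classical
  obtain ⟨m, x, hx⟩ := Submodule.fg_iff_exists_fin_generating_family.1 hfg
  have hxmem : ∀ l, x l ∈ 𝒜 1 := fun l => hx ▸ Submodule.subset_span ⟨l, rfl⟩
  have hle : D ≤ segre 𝒜 d := hD ▸ inf_le_left
  let ι : D →ₐ[A] segre 𝒜 d := Subalgebra.inclusion hle
  letI : Algebra D (segre 𝒜 d) := ι.toRingHom.toAlgebra
  haveI : Algebra.IsIntegral D (segre 𝒜 d) := ⟨isIntegral_inclusion 𝒜 d D hD hle⟩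
  obtain ⟨Q, -, hQ, hQP⟩ := Ideal.exists_ideal_over_prime_of_isIntegral (S := segre 𝒜 d) P ⊥ (by
    intro s hs
    have : s = 0 := Subalgebra.inclusion_injective hle ((Ideal.mem_bot.1 hs).trans (map_zero ι).symm)
    rw [this]
    exact P.zero_mem)
  haveI := hQ
  -- a degree one pure tensor outside `Q`
  obtain ⟨j, hjQ⟩ : ∃ j : Fin d → Fin m,
      (⟨tprod A (fun i => x (j i)), tprod_mem_segre 𝒜 d fun i => hxmem (j i)⟩ : segre 𝒜 d) ∉ Q := by
    by_contra hall
    simp only [not_exists, not_not] at hall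
    let N : Submodule A T := (Q.restrictScalars A).map (segre 𝒜 d).val.toLinearMap
    have hNmem : ∀ (J : Fin d → Fin m), ∀ s ∈ segre 𝒜 d, tprod A (fun i => x (J i)) * s ∈ N := fun J s hs =>
      ⟨⟨tprod A (fun i => x (J i)), tprod_mem_segre 𝒜 d fun i => hxmem (J i)⟩ * ⟨s, hs⟩,
        Q.mul_mem_right _ (hall J), rfl⟩
    have hb : ∀ b : Fin d → B, (∀ i, b i ∈ 𝒜 k) → tprod A b ∈ N := by
      intro b hb
      have hrep : ∀ i, ∃ c : Fin m → B, (∀ l, c l ∈ 𝒜 (k - 1)) ∧ b i = ∑ l, x l * c l := by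
        intro i
        have hle' : (𝒜 1) ^ (k - 1) ≤ 𝒜 (k - 1) := pow_le_grade 𝒜 (k - 1)
        have h1 := mem_pow_of_mem hgen (hb i)
        rw [← Nat.sub_add_cancel hk, pow_succ', Nat.succ_eq_add_one] at h1
        refine Submodule.mul_induction_on h1 (fun a ha c hc => ?_) ?_
        · rw [← hx, Submodule.mem_span_range_iff_exists_fun] at ha
          obtain ⟨r, hr⟩ := ha
          refine ⟨fun l => r l • c, fun l => Submodule.smul_mem _ _ (hle' (by simpa using hc)), ?_⟩
          rw [← hr, Finset.sum_mul]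
          exact Finset.sum_congr rfl fun l _ => by rw [smul_mul_assoc, mul_smul_comm]
        · rintro a a' ⟨c, hc, rfl⟩ ⟨c', hc', rfl⟩
          exact ⟨c + c', fun l => Submodule.add_mem _ (hc l) (hc' l), by simp [mul_add, Finset.sum_add_distrib]⟩
      choose c hc hbc using hrep
      rw [funext hbc, MultilinearMap.map_sum]
      refine Submodule.sum_mem _ fun J _ => ?_
      rw [show (fun i => x (J i) * c i (J i)) = (fun i => x (J i)) * (fun i => c i (J i)) from rfl,
        ← PiTensorProduct.tprod_mul_tprod]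
      exact hNmem J _ (tprod_mem_segre 𝒜 d fun i => hc i (J i))
    obtain ⟨q, hq, hqt⟩ : t ∈ N := Submodule.span_le.2 (by rintro _ ⟨b, hb', rfl⟩; exact hb b hb') htk
    refine htP ?_
    rw [← hQP]
    show ι ⟨t, htD⟩ ∈ Q
    rwa [show ι ⟨t, htD⟩ = q from Subtype.ext hqt.symm]
  let F := FractionRing (segre 𝒜 d ⧸ Q)
  let π : segre 𝒜 d →ₐ[A] F := (IsScalarTower.toAlgHom A _ F).comp (Ideal.Quotient.mkₐ A Q)
  have hπ : ∀ z, π z = 0 ↔ z ∈ Q := fun z => by
    show algebraMap (segre 𝒜 d ⧸ Q) F (Ideal.Quotient.mk Q z) = 0 ↔ _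
    rw [map_eq_zero_iff _ (IsFractionRing.injective (segre 𝒜 d ⧸ Q) F), Ideal.Quotient.eq_zero_iff_mem]
  let el : (Fin d → Fin m) → segre 𝒜 d := fun J =>
    ⟨tprod A (fun i => x (J i)), tprod_mem_segre 𝒜 d fun i => hxmem (J i)⟩
  have hy : π (el j) ≠ 0 := fun h => hjQ ((hπ _).1 h)
  refine ⟨m, ⟨
    { x := x, hx := hxmem, F := F, π := π,
      w := fun i l => π (el (Function.update j i l)) / π (el j),
      j := j, y := π (el j), hy := hy,
      hj := fun i => by rw [Function.update_eq_self, div_self hy],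
      hP := fun s hs ⟨hsD, hsP⟩ => (hπ _).2 (by
        rw [← hQP] at hsP
        exact hsP)
      hmon := fun J => ?_ }⟩⟩
  show π (el J) = π (el j) * ∏ i, π (el (Function.update j i (J i))) / π (el j)
  have hid : el J * el j ^ d = el j * ∏ i, el (Function.update j i (J i)) := by
    apply Subtype.val_injective
    have hcoe : ∀ K, ((el K : segre 𝒜 d) : T) = PiTensorProduct.tprodMonoidHom A (fun i => x (K i)) := fun K => rfl
    simp only [MulMemClass.coe_mul, SubmonoidClass.coe_pow, SubmonoidClass.coe_finsetProd, hcoe, ← map_prod, ← map_mul,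
      ← map_pow]
    congr 1
    funext i
    simp only [Pi.mul_apply, Pi.pow_apply, Finset.prod_apply]
    rw [← Finset.mul_prod_erase _ _ (Finset.mem_univ i), Function.update_self,
      Finset.prod_congr rfl (fun l hl => by rw [Function.update_of_ne (Finset.ne_of_mem_erase hl).symm]),
      Finset.prod_const, Finset.card_erase_of_mem (Finset.mem_univ i), Finset.card_univ, Fintype.card_fin]
    obtain ⟨d', rfl⟩ : ∃ d', d = d' + 1 := ⟨d - 1, by have := i.pos; omega⟩
    rw [Nat.add_sub_cancel, pow_succ]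
    ring
  have hid' := congrArg π hid
  rw [map_mul, map_mul, map_pow, map_prod] at hid'
  rw [Finset.prod_div_distrib, Finset.prod_const, Finset.card_univ, Fintype.card_fin, ← mul_div_assoc,
    ← hid', mul_div_cancel_right₀ _ (pow_ne_zero _ hy)]

variable {𝒜 d}

theorem eval_form_mem {m : ℕ} {x : Fin m → B} (hx : ∀ l, x l ∈ 𝒜 1) {n : ℕ} {f : MvPolynomial (Fin m) A}
    (hf : f.IsHomogeneous n) : MvPolynomial.aeval x f ∈ 𝒜 n := by
  rw [f.as_sum, map_sum]
  refine Submodule.sum_mem _ fun s hs => ?_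
  rw [MvPolynomial.aeval_monomial, ← Algebra.smul_def]
  refine Submodule.smul_mem _ _ ?_
  have hdeg : ∑ l ∈ s.support, s l = n := by
    have := hf (MvPolynomial.mem_support_iff.1 hs)
    simpa [Finsupp.weight_apply, Finsupp.sum] using this
  rw [← hdeg]
  refine SetLike.prod_mem_graded _ _ _ fun l _ => ?_
  have := SetLike.pow_mem_graded (s l) (hx l)
  simpa using this

/-- Value of a diagonal form. -/
theorem Eval.form {P : Set T} {m : ℕ} (e : Eval 𝒜 d P m) {n : ℕ} (f : MvPolynomial (Fin m) A)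
    (hf : f.IsHomogeneous n) :
    e.π ⟨tprod A (fun _ => MvPolynomial.aeval e.x f), tprod_mem_segre 𝒜 d fun _ => eval_form_mem e.hx hf⟩ =
      e.y ^ n * ∏ i, MvPolynomial.aeval (e.w i) f := by
  classical
  have hmon : ∀ (n : ℕ) (s : Fin d → (Fin m →₀ ℕ)), (∀ i, (s i).degree = n) →
      ∃ h : tprod A (fun i => MvPolynomial.aeval e.x (MvPolynomial.monomial (s i) (1 : A))) ∈ segre 𝒜 d,
        e.π ⟨_, h⟩ = e.y ^ n * ∏ i, MvPolynomial.aeval (e.w i) (MvPolynomial.monomial (s i) (1 : A)) := by
    intro n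
    induction n with
    | zero =>
      intro s hs
      have h0 : ∀ i, s i = 0 := fun i => (Finsupp.degree_eq_zero_iff _).1 (hs i)
      have hone : tprod A (fun i => MvPolynomial.aeval e.x (MvPolynomial.monomial (s i) (1 : A))) = 1 := by
        rw [PiTensorProduct.one_def]
        congr 1
        funext i
        simp [h0]
      refine ⟨hone ▸ one_mem _, ?_⟩
      rw [show (⟨_, hone ▸ one_mem _⟩ : segre 𝒜 d) = 1 from Subtype.ext hone, map_one]
      simp [h0]
    | succ n ih =>
      intro s hs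
      have hl : ∀ i, ∃ l, 1 ≤ s i l := fun i => by
        by_contra hall
        simp only [not_exists, not_le, Nat.lt_one_iff] at hall
        have : s i = 0 := Finsupp.ext hall
        have := hs i
        simp_all
      choose l hl using hl
      let s' : Fin d → (Fin m →₀ ℕ) := fun i => s i - Finsupp.single (l i) 1
      have hsplit : ∀ i, Finsupp.single (l i) 1 + s' i = s i := fun i =>
        add_tsub_cancel_of_le (Finsupp.single_le_iff.2 (hl i))
      have hdeg : ∀ i, (s' i).degree = n := fun i => by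
        have := congrArg Finsupp.degree (hsplit i)
        rw [map_add, Finsupp.degree_single, hs i] at this
        omega
      obtain ⟨hmem, hval⟩ := ih s' hdeg
      have hfac : ∀ i, (MvPolynomial.monomial (s i) (1 : A)) =
          MvPolynomial.X (l i) * MvPolynomial.monomial (s' i) (1 : A) := fun i => by
        rw [MvPolynomial.X, MvPolynomial.monomial_mul, hsplit, one_mul]
      have hprod : tprod A (fun i => MvPolynomial.aeval e.x (MvPolynomial.monomial (s i) (1 : A))) =
          tprod A (fun i => e.x (l i)) *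
            tprod A (fun i => MvPolynomial.aeval e.x (MvPolynomial.monomial (s' i) (1 : A))) := by
        rw [PiTensorProduct.tprod_mul_tprod]
        congr 1
        funext i
        rw [hfac i, map_mul, MvPolynomial.aeval_X]
        rfl
      have hmemJ := tprod_mem_segre 𝒜 d (fun i => e.hx (l i))
      refine ⟨hprod ▸ mul_mem hmemJ hmem, ?_⟩
      rw [show (⟨_, hprod ▸ mul_mem hmemJ hmem⟩ : segre 𝒜 d) = ⟨_, hmemJ⟩ * ⟨_, hmem⟩ from Subtype.ext hprod,
        map_mul, e.hmon, hval]
      simp only [hfac, map_mul, MvPolynomial.aeval_X, Finset.prod_mul_distrib]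
      ring
  have hdeg : ∀ u ∈ f.support, Finsupp.degree u = n := fun u hu => by
    have := hf (MvPolynomial.mem_support_iff.1 hu)
    rwa [Finsupp.degree_eq_weight_one]
  have hexp : ∀ {C : Type u} [CommRing C] [Algebra A C] (z : Fin m → C), MvPolynomial.aeval z f =
      ∑ u : f.support, f.coeff u.1 • MvPolynomial.aeval z (MvPolynomial.monomial u.1 (1 : A)) := by
    intro C _ _ z
    conv_lhs => rw [f.as_sum, map_sum, ← Finset.sum_coe_sort]
    refine Finset.sum_congr rfl fun u _ => ?_
    rw [← map_smul, MvPolynomial.smul_monomial, smul_eq_mul, mul_one]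
  have heq : (⟨tprod A (fun _ : Fin d => MvPolynomial.aeval e.x f),
      tprod_mem_segre 𝒜 d fun _ => eval_form_mem e.hx hf⟩ : segre 𝒜 d) =
      ∑ r : Fin d → f.support, (∏ i, f.coeff (r i).1) •
        ⟨_, (hmon n (fun i => (r i).1) fun i => hdeg _ (r i).2).choose⟩ := by
    apply Subtype.val_injective
    rw [AddSubmonoidClass.coe_finsetSum]
    show tprod A (fun _ : Fin d => MvPolynomial.aeval e.x f) = _
    rw [hexp e.x, MultilinearMap.map_sum]
    refine Finset.sum_congr rfl fun r _ => ?_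
    rw [MultilinearMap.map_smul_univ]
    rfl
  rw [heq, map_sum]
  simp only [map_smul]
  rw [Finset.sum_congr rfl fun r _ =>
    congrArg (fun z => (∏ i, f.coeff (r i).1) • z) (hmon n (fun i => (r i).1) fun i => hdeg _ (r i).2).choose_spec]
  simp only [hexp, Fintype.prod_sum, Finset.mul_sum]
  refine Finset.sum_congr rfl fun r _ => ?_
  simp only [Algebra.smul_def, map_prod, Finset.prod_mul_distrib]
  ring

/-- Sums over orbit-like classes of degree one tensors are invariant. -/
theorem fibreSum_mem {m : ℕ} {x : Fin m → B} (hx : ∀ l, x l ∈ 𝒜 1) (D : Subalgebra A T)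
    (hD : D = segre 𝒜 d ⊓ SymTen.TS A B d) (α : Fin m → ℕ) :
    (∑ J ∈ Finset.univ.filter (fun J : Fin d → Fin m => ∀ l, (Finset.univ.filter (fun i => J i = l)).card = α l),
      tprod A (fun i => x (J i))) ∈ D := by
  classical
  rw [hD]
  refine ⟨Subalgebra.sum_mem _ fun J _ => tprod_mem_segre 𝒜 d fun i => hx (J i), fun σ => ?_⟩
  rw [← SymTen.perm_apply, map_sum]
  simp only [SymTen.perm_tprod]
  refine Finset.sum_equiv (Equiv.arrowCongr σ (Equiv.refl _)) ?_ fun J _ => rfl
  intro J
  simp only [Finset.mem_filter, Finset.mem_univ, true_and]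
  refine forall_congr' fun l => ?_
  rw [Finset.card_equiv σ (t := Finset.univ.filter fun i => (Equiv.arrowCongr σ (Equiv.refl _)) J i = l)]
  intro i
  simp

end Groth.Agent.SegreInv
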